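import Cfsg.Agent.S0887
import Cfsg.Agent.Characters.Clifford
import Cfsg.Agent.CharactersDeep.MaxInduced
import Cfsg.Agent.H788.RatB.Rat
import Cfsg.Agent.H770.CY.Defs

/-!
# Descent to a normal subgroup of index prime to `p` (S4829, own characteristic; helper151)

`S` normal in `G`, `ξ` an irreducible character of `G`, `U ≤ S`, `f` a generalized character of `U` with
`[ξ|U, f] = ± 1`. Then the constituents `θ` of `ξ|S` have multiplicity one (`mult_one_of_mean`) and are fixed by every
power map fixing `ξ|S` and `f` (`pow_fix_of_mean`).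

* `descent` : `Θ` a character of `G` with exactly one constituent `ξ` of degree prime to `p`, of multiplicity one.
-/

set_option autoImplicit false

open scoped ComplexConjugate
open Cfsg

namespace Cfsg.Agent.H151.OC

open Cfsg.Agent.Characters Cfsg.Agent.Characters.Core Cfsg.Agent.Characters.Clifford Cfsg.Agent.H770.CY

universe u

/-! ### Combinatorics -/

/-- a permutation commuting with a transitive set of maps, which fixes a function with sum `± 1`, is trivial -/
theorem perm_eq_one {Ω : Type*} [Fintype Ω] {c : Ω → ℤ} (hsum : IsUnit (∑ x, c x)) (σ : Equiv.Perm Ω)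
    (hc : ∀ x, c (σ x) = c x) (htr : ∀ x y : Ω, ∃ a : Ω → Ω, a x = y ∧ ∀ z, σ (a z) = a (σ z)) : σ = 1 := by
  classical
  by_contra hne
  have hm : orderOf σ ≠ 1 := fun h => hne (orderOf_eq_one_iff.1 h)
  obtain ⟨l, hl, m, hlm⟩ := Nat.exists_prime_and_dvd hm
  have hlF : Fact l.Prime := ⟨hl⟩
  have hpos : 0 < orderOf σ := orderOf_pos σ
  have hτl : (σ ^ m) ^ l = 1 := by rw [← pow_mul, mul_comm, ← hlm, pow_orderOf_eq_one]
  have hτ : σ ^ m ≠ 1 := by
    intro h
    have h1 := Nat.le_of_dvd (by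
      rcases Nat.eq_zero_or_pos m with h0 | h0
      · rw [h0, mul_zero] at hlm
        omega
      · exact h0) (orderOf_dvd_of_pow_eq_one h)
    rw [hlm] at h1 hpos
    have h2 := hl.two_le
    have h3 : 0 < m := Nat.pos_of_mul_pos_left hpos
    nlinarith
  have hcomm : ∀ (j : ℕ) (a : Ω → Ω), (∀ z, σ (a z) = a (σ z)) → ∀ z, (σ ^ j) (a z) = a ((σ ^ j) z) := by
    intro j a ha
    induction j with
    | zero => intro z; rfl
    | succ j ih =>
      intro z
      rw [pow_succ, Equiv.Perm.mul_apply, Equiv.Perm.mul_apply, ha, ih]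
  have hfree : ∀ x, (σ ^ m) x ≠ x := by
    intro x hx
    apply hτ
    ext y
    obtain ⟨a, rfl, ha⟩ := htr x y
    rw [hcomm m a ha, hx, Equiv.Perm.one_apply]
  have hcτ : ∀ (j : ℕ) (x : Ω), c ((σ ^ j) x) = c x := by
    intro j
    induction j with
    | zero => intro x; rfl
    | succ j ih =>
      intro x
      rw [pow_succ, Equiv.Perm.mul_apply, ih, hc]
  have key : ∀ v : ℤ, l ∣ (Finset.univ.filter fun x => c x = v).card := by
    intro v
    let f : Function.End {x // c x = v} := fun x => ⟨(σ ^ m) x, by rw [hcτ, x.2]⟩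
    have hf' : ∀ j : ℕ, ∀ x : {x // c x = v}, ((f ^ j) x : Ω) = ((σ ^ m) ^ j) x := by
      intro j
      induction j with
      | zero => intro x; rfl
      | succ j ih =>
        intro x
        rw [pow_succ, pow_succ, Equiv.Perm.mul_apply]
        exact ih (f x)
    have hf : f ^ l ^ 1 = 1 := by
      funext x
      apply Subtype.ext
      rw [pow_one, hf', hτl]
      rfl
    have h1 := Equiv.Perm.card_fixedPoints_modEq hf
    have h2 : Fintype.card f.fixedPoints = 0 := by
      rw [Fintype.card_eq_zero_iff]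
      exact ⟨fun x => hfree _ (congrArg Subtype.val x.2)⟩
    rw [h2, Fintype.card_subtype] at h1
    exact (Nat.modEq_zero_iff_dvd).1 h1
  have h3 : (l : ℤ) ∣ ∑ x, c x := by
    rw [← Finset.sum_fiberwise_of_maps_to (s := Finset.univ) (t := Finset.univ.image c) (g := c)
      (fun x _ => Finset.mem_image_of_mem c (Finset.mem_univ x))]
    refine Finset.dvd_sum fun v _ => ?_
    rw [Finset.sum_congr rfl fun x hx => (Finset.mem_filter.1 hx).2, Finset.sum_const, nsmul_eq_mul]
    exact Dvd.dvd.mul_right (by exact_mod_cast key v) _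
  have h4 := isUnit_of_dvd_unit h3 hsum
  have h5 := Int.isUnit_iff.1 h4
  have h6 := hl.two_le
  omega

/-! ### The restriction to a normal subgroup -/

variable {G : Type u} [Group G] [Fintype G] {S : Subgroup G} [S.Normal] [Fintype S]

/-- the constituents of the restriction -/
abbrev Con (S : Subgroup G) [Fintype S] (ξ : G → ℂ) : Type u :=
  {ψ : IrrCharacter S // classInner (fun s : S => ξ s) (ψ : S → ℂ) ≠ 0}

noncomputable instance (ξ : G → ℂ) : Fintype (Con S ξ) := by
  classical
  have : Finite (IrrCharacter S) := finite_irr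
  exact Fintype.ofFinite _

/-- the formula `[ξ|U, f] = e ∑ c(θ)` -/
theorem sum_con {ξ : G → ℂ} (hξ : IsIrrCharacter G ξ) {U : Subgroup G} [Fintype U] (hUS : U ≤ S) {f : U → ℂ}
    {c : Con S ξ → ℤ} (hc : ∀ x : Con S ξ, classInner ((x.1 : S → ℂ) ∘ Subgroup.inclusion hUS) f = c x)
    (θ : Con S ξ) : classInner (fun u : U => ξ u) f = classInner (fun s : S => ξ s) (θ.1 : S → ℂ) * (∑ x, c x : ℤ) := by
  classical
  have : Finite (IrrCharacter S) := finite_irr
  let _ : Fintype (IrrCharacter S) := Fintype.ofFinite _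
  have hres := isCharacter_restrict S (isIrr_isCharacter hξ)
  have hdec := classFunction_eq_sum (isCharacter_isClassFunction hres)
  have h1 : (fun u : U => ξ u) = ∑ ψ : IrrCharacter S, classInner (fun s : S => ξ s) (ψ : S → ℂ) •
      ((ψ : S → ℂ) ∘ Subgroup.inclusion hUS) := by
    funext u
    have h2 := congrFun hdec (Subgroup.inclusion hUS u)
    rw [Finset.sum_apply] at h2 ⊢
    exact h2
  rw [h1, classInner_sum_left, Int.cast_sum, Finset.mul_sum]
  rw [← Finset.sum_subset (Finset.subset_univ (Finset.univ.filter fun ψ : IrrCharacter S =>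
    classInner (fun s : S => ξ s) (ψ : S → ℂ) ≠ 0))]
  · rw [← Finset.sum_subtype_eq_sum_filter, Finset.subtype_univ]
    refine Finset.sum_congr (by ext; simp) fun x _ => ?_
    rw [classInner_smul_left, hc x]
    congr 1
    obtain ⟨g, hg⟩ := exists_conj_of_constituents S hξ θ.1.2 x.1.2 θ.2 x.2
    rw [hg, classInner_restrict_conjNormal (isIrr_isClassFunction hξ)]
  · intro ψ _ hψ
    rw [Finset.mem_filter, not_and, not_not] at hψ
    rw [classInner_smul_left, hψ (Finset.mem_univ _), zero_mul]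

theorem isUnit_of_mean {m : ℕ} {z : ℤ} {w : ℂ} (h : w = (m : ℂ) * (z : ℤ)) (h1 : w = 1 ∨ w = -1) :
    m = 1 ∧ IsUnit z := by
  have h2 : (m : ℤ) * z = 1 ∨ (m : ℤ) * z = -1 := by
    rcases h1 with h1 | h1
    · left
      rw [h] at h1
      exact_mod_cast h1
    · right
      rw [h] at h1
      exact_mod_cast h1
  have h3 : IsUnit ((m : ℤ) * z) := by
    rcases h2 with h2 | h2 <;> rw [h2]
    · exact isUnit_one
    · exact isUnit_one.neg
  have h4 := isUnit_of_mul_isUnit_left h3
  refine ⟨?_, isUnit_of_mul_isUnit_right h3⟩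
  have h5 := Int.isUnit_iff.1 h4
  omega

/-- **The constituents of the restriction have multiplicity one.** -/
theorem mult_one_of_mean {ξ : G → ℂ} (hξ : IsIrrCharacter G ξ) {U : Subgroup G} [Fintype U] (hUS : U ≤ S) {f : U → ℂ}
    (hf : ∀ θ : S → ℂ, IsIrrCharacter S θ → ∃ c : ℤ, classInner (θ ∘ Subgroup.inclusion hUS) f = c)
    (h1 : classInner (fun u : U => ξ u) f = 1 ∨ classInner (fun u : U => ξ u) f = -1) {θ : S → ℂ}
    (hθ : IsIrrCharacter S θ) (hne : classInner (fun s : S => ξ s) θ ≠ 0) : classInner (fun s : S => ξ s) θ = 1 := by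
  choose c hc using fun x : Con S ξ => hf _ x.1.2
  have h2 := sum_con hξ hUS hc ⟨⟨θ, hθ⟩, hne⟩
  obtain ⟨m, hm⟩ := classInner_isNat (isCharacter_restrict S (isIrr_isCharacter hξ)) (isIrr_isCharacter hθ)
  change _ = classInner (fun s : S => ξ s) θ * _ at h2
  rw [hm] at h2 ⊢
  rw [(isUnit_of_mean h2 h1).1, Nat.cast_one]

/-- **The constituents of the restriction are fixed by the power maps.** -/
theorem pow_fix_of_mean {ξ : G → ℂ} (hξ : IsIrrCharacter G ξ) {U : Subgroup G} [Fintype U] (hUS : U ≤ S) {f : U → ℂ}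
    (hf : ∀ θ : S → ℂ, IsIrrCharacter S θ → ∃ c : ℤ, classInner (θ ∘ Subgroup.inclusion hUS) f = c)
    (h1 : classInner (fun u : U => ξ u) f = 1 ∨ classInner (fun u : U => ξ u) f = -1) {k : ℕ}
    (hk : k.Coprime (Nat.card S)) (hst : ∀ ψ : S → ℂ, IsIrrCharacter S ψ → classInner (fun s : S => ξ s) ψ ≠ 0 →
      classInner (fun s : S => ξ s) (fun s => ψ (s ^ k)) ≠ 0) (hfk : ∀ u : U, f (u ^ k) = f u) {θ : S → ℂ}
    (hθ : IsIrrCharacter S θ) (hne : classInner (fun s : S => ξ s) θ ≠ 0) (s : S) : θ (s ^ k) = θ s := by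
  classical
  choose c hc using fun x : Con S ξ => hf _ x.1.2
  have h2 := sum_con hξ hUS hc ⟨⟨θ, hθ⟩, hne⟩
  obtain ⟨m, hm⟩ := classInner_isNat (isCharacter_restrict S (isIrr_isCharacter hξ)) (isIrr_isCharacter hθ)
  change _ = classInner (fun s : S => ξ s) θ * _ at h2
  rw [hm] at h2
  have hu := (isUnit_of_mean h2 h1).2
  have hkU : k.Coprime (Nat.card U) := hk.coprime_dvd_right (Subgroup.card_dvd_of_le hUS)
  have hpowU : ∀ (α β : U → ℂ), classInner (fun s : U => α (s ^ k)) (fun s : U => β (s ^ k)) = classInner α β := by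
    intro α β
    rw [classInner_def, classInner_def]
    congr 1
    exact Fintype.sum_equiv (powCoprime (n := k) hkU.symm) _ _ fun g => rfl
  -- the power map on the constituents
  let F : Con S ξ → Con S ξ := fun x => ⟨⟨fun s => (x.1 : S → ℂ) (s ^ k), Cfsg.Agent.H788.RatB.isIrr_pow hk x.1.2⟩,
    hst _ x.1.2 x.2⟩
  have hF : Function.Injective F := by
    intro x y hxy
    apply Subtype.ext
    apply Subtype.ext
    funext s
    obtain ⟨t, rfl⟩ := (powCoprime (n := k) hk.symm).surjective s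
    exact congrFun (congrArg (fun z : Con S ξ => (z.1 : S → ℂ)) hxy) t
  let σ : Equiv.Perm (Con S ξ) := Equiv.ofBijective F (Finite.injective_iff_bijective.1 hF)
  have hσ : ∀ x s, ((σ x).1 : S → ℂ) s = (x.1 : S → ℂ) (s ^ k) := fun _ _ => rfl
  have h3 : σ = 1 := by
    refine perm_eq_one hu σ (fun x => ?_) (fun x y => ?_)
    · have h4 : ((c (σ x) : ℤ) : ℂ) = c x := by
        rw [← hc, ← hc, ← hpowU ((x.1 : S → ℂ) ∘ Subgroup.inclusion hUS) f]
        congr 1
        funext u
        exact (hfk u).symm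
      exact_mod_cast h4
    · obtain ⟨g, hg⟩ := exists_conj_of_constituents S hξ x.1.2 y.1.2 x.2 y.2
      refine ⟨fun z => ⟨⟨(z.1 : S → ℂ) ∘ (MulAut.conjNormal g : MulAut S), isIrr_conjNormal z.1.2 g⟩, ?_⟩, ?_, fun z => ?_⟩
      · change classInner (fun s : S => ξ s) ((z.1 : S → ℂ) ∘ (MulAut.conjNormal g : MulAut S)) ≠ 0
        rw [classInner_restrict_conjNormal (isIrr_isClassFunction hξ)]
        exact z.2
      · apply Subtype.ext
        apply Subtype.ext
        exact hg.symm
      · apply Subtype.ext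
        apply Subtype.ext
        funext s
        rw [hσ]
        change (z.1 : S → ℂ) ((MulAut.conjNormal g : MulAut S) (s ^ k)) = ((σ z).1 : S → ℂ) ((MulAut.conjNormal g : MulAut S) s)
        rw [hσ, map_pow]
  have h4 := hσ ⟨⟨θ, hθ⟩, hne⟩ s
  rw [h3] at h4
  exact h4.symm

/-- **The descent.** `Θ` a character of `G` with exactly one constituent `ξ` of degree prime to `p`, of multiplicity one,
`[ξ|U, f] = ± 1`: every constituent `θ` of `Θ|S` of degree prime to `p` has multiplicity one and is a constituent of `ξ|S`;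
it is fixed by every power map fixing `Θ|S` and `f`. -/
theorem descent {p : ℕ} [hp : Fact p.Prime] (hidx : ¬ p ∣ S.index) {Θ : G → ℂ} (hΘ : IsCharacter G Θ)
    {ξ : IrrCharacter G} (h1 : classInner Θ (ξ : G → ℂ) = 1)
    (hu : ∀ χ : IrrCharacter G, classInner Θ (χ : G → ℂ) ≠ 0 → ¬ p ∣ charDegree (χ : G → ℂ) → χ = ξ)
    {U : Subgroup G} [Fintype U] (hUS : U ≤ S) {f : U → ℂ}
    (hf : ∀ θ : S → ℂ, IsIrrCharacter S θ → ∃ c : ℤ, classInner (θ ∘ Subgroup.inclusion hUS) f = c)
    (hm : classInner (fun u : U => (ξ : G → ℂ) u) f = 1 ∨ classInner (fun u : U => (ξ : G → ℂ) u) f = -1) {θ : S → ℂ}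
    (hθ : IsIrrCharacter S θ) (hd : ¬ p ∣ charDegree θ) (hne : classInner (fun s : S => Θ s) θ ≠ 0) :
    classInner (fun s : S => Θ s) θ = 1 ∧ classInner (fun s : S => (ξ : G → ℂ) s) θ = 1 ∧
      ∀ k : ℕ, k.Coprime (Nat.card S) → (∀ s : S, Θ ((s ^ k : S) : G) = Θ s) → (∀ u : U, f (u ^ k) = f u) →
        ∀ s : S, θ (s ^ k) = θ s := by
  classical
  have : Finite (IrrCharacter G) := finite_irr
  let _ : Fintype (IrrCharacter G) := Fintype.ofFinite _
  have : Finite (IrrCharacter S) := finite_irr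
  let _ : Fintype (IrrCharacter S) := Fintype.ofFinite _
  -- the constituents over `θ` have degree prime to `p`
  have hdeg : ∀ (χ : IrrCharacter G) (θ : S → ℂ), IsIrrCharacter S θ → ¬ p ∣ charDegree θ →
      classInner (fun s : S => (χ : G → ℂ) s) θ ≠ 0 → ¬ p ∣ charDegree (χ : G → ℂ) := by
    intro χ θ hθ hd hχ hdvd
    obtain ⟨c, hc⟩ := isCharacter_apply_one (isIrr_isCharacter χ.2)
    obtain ⟨d, hd'⟩ := isCharacter_apply_one (isIrr_isCharacter hθ)
    obtain ⟨⟨q, hq⟩, h3⟩ := Cfsg.Agent.S0887.result S (χ : G → ℂ) χ.2 θ hθ hχ c d hc hd'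
    rw [Cfsg.Agent.Blocks.Basic.charDegree_of_eq hd'] at hd
    rw [Cfsg.Agent.Blocks.Basic.charDegree_of_eq hc, hq] at hdvd
    have hd0 : 0 < d := Nat.pos_of_ne_zero fun h => hd (by rw [h]; exact dvd_zero _)
    rw [hq, Nat.mul_div_cancel_left _ hd0] at h3
    rcases hp.out.dvd_mul.1 hdvd with h4 | h4
    · exact hd h4
    · exact hidx (h4.trans h3)
  -- the restriction of `Θ`
  have hdec := classFunction_eq_sum (isCharacter_isClassFunction hΘ)
  have hsum : ∀ θ : S → ℂ, classInner (fun s : S => Θ s) θ =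
      ∑ χ : IrrCharacter G, classInner Θ (χ : G → ℂ) * classInner (fun s : S => (χ : G → ℂ) s) θ := by
    intro θ
    have h2 : (fun s : S => Θ s) = ∑ χ : IrrCharacter G, classInner Θ (χ : G → ℂ) • fun s : S => (χ : G → ℂ) s := by
      funext s
      have h3 := congrFun hdec s
      rw [Finset.sum_apply] at h3 ⊢
      exact h3
    rw [h2, classInner_sum_left]
    exact Finset.sum_congr rfl fun χ _ => classInner_smul_left _ _ _
  have hmul : ∀ θ : S → ℂ, IsIrrCharacter S θ → ¬ p ∣ charDegree θ →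
      classInner (fun s : S => Θ s) θ = classInner (fun s : S => (ξ : G → ℂ) s) θ := by
    intro θ hθ hd
    rw [hsum, Finset.sum_eq_single ξ]
    · rw [h1, one_mul]
    · intro χ _ hχ
      by_cases h4 : classInner Θ (χ : G → ℂ) = 0
      · rw [h4, zero_mul]
      · by_cases h5 : classInner (fun s : S => (χ : G → ℂ) s) θ = 0
        · rw [h5, mul_zero]
        · exact absurd (hu χ h4 (hdeg χ θ hθ hd h5)) hχ
    · intro h4
      exact absurd (Finset.mem_univ _) h4
  have hneξ : classInner (fun s : S => (ξ : G → ℂ) s) θ ≠ 0 := by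
    rw [← hmul θ hθ hd]
    exact hne
  have h2 := mult_one_of_mean ξ.2 hUS hf hm hθ hneξ
  refine ⟨(hmul θ hθ hd).trans h2, h2, fun k hk hΘk hfk s => ?_⟩
  -- the power map fixes `ξ|S`
  have hpow : ∀ (α β : S → ℂ), classInner (fun s : S => α (s ^ k)) (fun s : S => β (s ^ k)) = classInner α β := by
    intro α β
    rw [classInner_def, classInner_def]
    congr 1
    exact Fintype.sum_equiv (powCoprime (n := k) hk.symm) _ _ fun g => rfl
  refine pow_fix_of_mean ξ.2 hUS hf hm hk (fun ψ hψ hψne => ?_) hfk hθ hneξ s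
  have hψd : ¬ p ∣ charDegree ψ := by
    intro h3
    obtain ⟨c, hc⟩ := isCharacter_apply_one (isIrr_isCharacter ξ.2)
    obtain ⟨d, hd'⟩ := isCharacter_apply_one (isIrr_isCharacter hψ)
    have h4 := (Cfsg.Agent.S0887.result S (ξ : G → ℂ) ξ.2 ψ hψ hψne c d hc hd').1
    rw [Cfsg.Agent.Blocks.Basic.charDegree_of_eq hd'] at h3
    apply hdeg ξ θ hθ hd hneξ
    rw [Cfsg.Agent.Blocks.Basic.charDegree_of_eq hc]
    exact h3.trans h4
  have hψk : IsIrrCharacter S fun s => ψ (s ^ k) := Cfsg.Agent.H788.RatB.isIrr_pow hk hψ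
  have hψkd : ¬ p ∣ charDegree (fun s => ψ (s ^ k)) := by
    rw [Cfsg.Agent.Blocks.Basic.charDegree_def, one_pow, ← Cfsg.Agent.Blocks.Basic.charDegree_def]
    exact hψd
  rw [← hmul _ hψk hψkd]
  have h3 : (fun s : S => Θ s) = fun s : S => (fun s : S => Θ s) (s ^ k) := funext fun s => (hΘk s).symm
  rw [h3, hpow (fun s : S => Θ s) ψ, hmul ψ hψ hψd]
  exact hψne

end Cfsg.Agent.H151.OC
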