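import Cfsg.Agent.H151.OC.Ss
import Cfsg.Agent.H151.OC.Desc

/-!
# Own characteristic: the characters of degree prime to `p` over a linear character of `B ∩ S` (S4829; helper151)

`R : RGD`, `D : Adj` on `Y`, `GG = ⊤`, `hT` (rigidity), `MultOne`, `hN` (linear characters of `U`); `S` normal in `Y`, `U ≤ S`.

* `sup_B`, `not_dvd_index` : `S B = Y`, `p ∤ |Y : S|`;
* `h_three` : `lam : B → ℂˣ` trivial on `U`: every irreducible constituent `θ` of degree prime to `p` of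
  `Ind_{B ∩ S}^S lam` has multiplicity one, and is fixed by every power map `k ≡ 1 (mod p)` fixing `lam` on `B ∩ S`;
* `h_three_cyc` : `lam ^ 2 = 1` on `B ∩ S`: `Cyc p θ`;
* `h_three'`, `h_three_cyc'` : the same for a linear character of `B ∩ S` which is not given on `B`.
-/

set_option autoImplicit false
set_option linter.unusedSectionVars false

open scoped ComplexConjugate
open Cfsg

namespace Cfsg.Agent.H151.OC

open Cfsg.Agent.Characters
open Cfsg.Agent.H53.HC Cfsg.Agent.H641.Gow Cfsg.Agent.H148.GG Cfsg.Agent.H743.GG Cfsg.Agent.H40.OC Cfsg.Agent.H684.OQ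
  Cfsg.Agent.H381.OQ Cfsg.Agent.H770.CY

open CoxeterSystem Cfsg.Agent.ChevalleyStructure.CoxeterGeom Cfsg.Agent.Tits.Roots Cfsg.Agent.Tits.Core
  Cfsg.Agent.Tits.Exchange Cfsg.Agent.Nodes.Reps Cfsg.Agent.Nodes.BNOf Cfsg.Agent.Nodes.StabComb
  Cfsg.Agent.Nodes.Bruhat Cfsg.Agent.Nodes.OppDec Cfsg.Agent.Nodes.LeviDec

universe u

variable {I W : Type*} {Y : Type u} [Fintype I] [DecidableEq I] [Group W] [Group Y] {M : CoxeterMatrix I}
  {cs : CoxeterSystem M W} {A : I → I → ℤ} {h : IsCartan M A} {p : ℕ} {T : Subgroup Y} {n : I → Y}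
  {X : (I → ℤ) → Subgroup Y}

variable (R : RGD cs h p T n X)

include R in
/-- a normal subgroup containing `U` contains all root groups -/
theorem X_le_of_U_le {S : Subgroup Y} [S.Normal] (hUS : UU cs h X ≤ S) {x : I → ℤ} (hx : IsRoot cs h x) : X x ≤ S := by
  obtain ⟨w, i, rfl⟩ := hx
  obtain ⟨g, hg⟩ := exists_rp cs R.nsys w
  intro y hy
  rw [← R.conj_rp hg (isRoot_sr cs h i)] at hy
  have h1 : ∃ u ∈ X (sr i), g * u * g⁻¹ = y := ⟨_, mem_cj.1 hy, by group⟩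
  obtain ⟨u, hu, rfl⟩ := h1
  exact Subgroup.Normal.conj_mem inferInstance u (hUS (X_le_UU i hu)) g

include R in
theorem sup_T (hG : GG cs h T X = ⊤) {S : Subgroup Y} [S.Normal] (hUS : UU cs h X ≤ S) : S ⊔ T = ⊤ := by
  rw [eq_top_iff, ← hG]
  exact sup_le le_sup_right ((RGD.Sup_le fun x hx => X_le_of_U_le R hUS hx).trans le_sup_left)

include R in
theorem sup_B (hG : GG cs h T X = ⊤) {S : Subgroup Y} [S.Normal] (hUS : UU cs h X ≤ S) : S ⊔ RGD.B cs h T X = ⊤ := by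
  rw [eq_top_iff, ← sup_T R hG hUS]
  exact sup_le_sup_left RGD.T_le_B _

include R in
theorem not_dvd_index [Finite Y] [hp : Fact p.Prime] (hG : GG cs h T X = ⊤) {S : Subgroup Y} [S.Normal]
    (hUS : UU cs h X ≤ S) : ¬ p ∣ S.index := by
  intro h1
  have h2 : Function.Surjective ((QuotientGroup.mk' S).comp T.subtype) := by
    rw [← MonoidHom.range_eq_top, MonoidHom.range_comp, Subgroup.range_subtype]
    have h3 : Subgroup.map (QuotientGroup.mk' S) (S ⊔ T) = ⊤ := by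
      rw [sup_T R hG hUS]
      exact Subgroup.map_top_of_surjective _ (QuotientGroup.mk'_surjective S)
    rw [Subgroup.map_sup, QuotientGroup.map_mk'_self, bot_sup_eq] at h3
    exact h3
  have h4 := Subgroup.card_dvd_of_surjective _ h2
  rw [Subgroup.index_eq_card] at h1
  have h5 : p ∣ Nat.card T := h1.trans h4
  have h6 := R.tcop
  rw [Nat.coprime_comm, hp.out.coprime_iff_not_dvd] at h6
  exact h6 h5

/-! ### The generalized character of `U` -/

/-- the generalized character `∑ (-1)^|J| ψ_J` of `U` -/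
noncomputable def fU {U : Subgroup Y} (lam : I → (↥U →* ℂˣ)) (u : ↥U) : ℂ :=
  ∑ J : Finset I, (-1) ^ J.card * ((psi lam J u : ℂˣ) : ℂ)

theorem classInner_fU {U : Subgroup Y} [Fintype U] (lam : I → (↥U →* ℂˣ)) (θ : ↥U → ℂ) :
    classInner θ (fU lam) = ∑ J : Finset I, (-1) ^ J.card * classInner θ (fun u => ((psi lam J u : ℂˣ) : ℂ)) := by
  have h1 : fU lam = ∑ J : Finset I, ((-1 : ℂ) ^ J.card) • fun u => ((psi lam J u : ℂˣ) : ℂ) := by
    funext u
    rw [Finset.sum_apply]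
    rfl
  rw [h1, Core.classInner_sum_right]
  refine Finset.sum_congr rfl fun J _ => ?_
  rw [Core.classInner_smul_right, map_pow, map_neg, map_one]

theorem fU_isInt {U : Subgroup Y} [Fintype U] (lam : I → (↥U →* ℂˣ)) {θ : ↥U → ℂ} (hθ : IsCharacter U θ) :
    ∃ c : ℤ, classInner θ (fU lam) = c := by
  rw [classInner_fU]
  choose m hm using fun J : Finset I => Core.classInner_isNat hθ (Linear.isCharacter_hom (psi lam J))
  refine ⟨∑ J : Finset I, (-1) ^ J.card * (m J : ℤ), ?_⟩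
  push_cast
  exact Finset.sum_congr rfl fun J _ => by rw [hm]

variable {F : I → Type*} [∀ i, Field (F i)] (D : Adj T X F)

theorem mG_eq_fU [Finite W] [Finite Y] [∀ i, Finite (F i)] [Fintype (UU cs h X)] {lam : I → (↥(UU cs h X) →* ℂˣ)}
    (hl : Lam (UU cs h X) (DU R D) lam) {χ : Y → ℂ} (hχ : IsClassFunction Y χ) :
    mG R D χ = classInner (fun u : UU cs h X => χ u) (fU lam) := by
  rw [mG_eq_sum R D hl hχ, classInner_fU]

include R D in
/-- the characteristic of the fields is `p` -/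
theorem char_F [Finite W] (i : I) : (p : F i) = 0 := by
  obtain ⟨u, hu⟩ := co_surjective R D i (Multiplicative.ofAdd 1)
  obtain ⟨k, hk⟩ := R.isPGroup_Upos u
  have h1 : co R D i (u ^ p ^ k) = 1 := by
    have h2 : u ^ p ^ k = 1 := hk
    rw [h2, map_one]
  rw [map_pow, hu, ← ofAdd_nsmul] at h1
  have h3 : ((p ^ k : ℕ) : F i) = 0 := by
    have h4 : (p ^ k) • (1 : F i) = 0 := Multiplicative.ofAdd.injective h1
    rw [nsmul_eq_mul, mul_one] at h4
    exact h4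
  rw [Nat.cast_pow] at h3
  exact eq_zero_of_pow_eq_zero h3

theorem lam_pow [Finite W] {lam : I → (↥(UU cs h X) →* ℂˣ)} (hl : Lam (UU cs h X) (DU R D) lam) {k : ℕ}
    (hk : k ≡ 1 [MOD p]) (i : I) (u : ↥(UU cs h X)) : lam i (u ^ k) = lam i u := by
  have h1 : lam i (u ^ p) = 1 := by
    refine hl.one i _ ((mem_DV' R D (u ^ p).2 (u ^ p).2).2 ?_)
    have h2 : co R D i (u ^ p) = 1 := by
      rw [map_pow]
      obtain ⟨s, hs⟩ : ∃ s : F i, co R D i u = Multiplicative.ofAdd s := ⟨Multiplicative.toAdd (co R D i u), rfl⟩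
      rw [hs, ← ofAdd_nsmul, nsmul_eq_mul, char_F R D i, zero_mul]
      rfl
    exact h2
  rw [map_pow] at h1 ⊢
  have h2 : orderOf (lam i u) ∣ p := orderOf_dvd_of_pow_eq_one h1
  have h3 : lam i u ^ k = lam i u ^ 1 := pow_eq_pow_iff_modEq.2 (hk.of_dvd h2)
  rw [h3, pow_one]

theorem fU_pow [Finite W] {lam : I → (↥(UU cs h X) →* ℂˣ)} (hl : Lam (UU cs h X) (DU R D) lam) {k : ℕ}
    (hk : k ≡ 1 [MOD p]) (u : ↥(UU cs h X)) : fU lam (u ^ k) = fU lam u := by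
  unfold fU
  refine Finset.sum_congr rfl fun J _ => ?_
  rw [psi_apply, psi_apply]
  congr 1
  exact Finset.prod_congr rfl fun i _ => by rw [lam_pow R D hl hk]

/-! ### The theorem -/

/-- the linear character of `B ∩ S` given by a linear character of `B` -/
def resB (S : Subgroup Y) {B : Subgroup Y} (lam : ↥B →* ℂˣ) : ↥(B.subgroupOf S) →* ℂˣ :=
  lam.comp
    { toFun := fun j => ⟨((j : S) : Y), Subgroup.mem_subgroupOf.1 j.2⟩
      map_one' := rfl
      map_mul' := fun _ _ => rfl }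

/-- **The characters of degree prime to `p` over a linear character of `B ∩ S`.** -/
theorem h_three [Finite W] [Fintype Y] [∀ i, Finite (F i)] (hG : GG cs h T X = ⊤)
    (hT : ∀ t : T, (∀ i, D.a i t = 1) → t = 1) (hm : MultOne cs h T X) [hp : Fact p.Prime]
    (hN : ∀ f : ↥(UU cs h X) →* ℂˣ, ∀ u, (∀ i, co R D i u = 1) → f u = 1) (S : Subgroup Y) [S.Normal] [Fintype S]
    (hUS : UU cs h X ≤ S) (lam : ↥(RGD.B cs h T X) →* ℂˣ)
    (hlam : ∀ u (hu : u ∈ RGD.Sup X (RGD.Pos cs h)), lam ⟨u, RGD.U_le_B hu⟩ = 1) {θ : S → ℂ}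
    (hθ : IsIrrCharacter S θ) (hd : ¬ p ∣ charDegree θ)
    (hne : classInner (indFun ((RGD.B cs h T X).subgroupOf S) fun j => ((resB S lam j : ℂˣ) : ℂ)) θ ≠ 0) :
    classInner (indFun ((RGD.B cs h T X).subgroupOf S) fun j => ((resB S lam j : ℂˣ) : ℂ)) θ = 1 ∧
      ∀ k : ℕ, k.Coprime (Nat.card S) → k ≡ 1 [MOD p] → (∀ b, resB S lam b ^ k = resB S lam b) →
        ∀ s : S, θ (s ^ k) = θ s := by
  classical
  have : Fintype ↥(UU cs h X) := Fintype.ofFinite _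
  obtain ⟨ξ, h1, h2, h3⟩ := uniq_B R D hG hT hm hN lam hlam
  obtain ⟨la, hl⟩ := exists_lam R D
  have hcl : IsClassFunction ↥(RGD.B cs h T X) fun b => ((lam b : ℂˣ) : ℂ) :=
    Core.isCharacter_isClassFunction (Linear.isCharacter_hom lam)
  have hres : (fun s : S => indFun (RGD.B cs h T X) (fun b => ((lam b : ℂˣ) : ℂ)) s) =
      indFun ((RGD.B cs h T X).subgroupOf S) fun j => ((resB S lam j : ℂˣ) : ℂ) := by
    funext s
    exact Cfsg.Agent.CharactersDeep.MaxInduced.indFun_restrict S (RGD.B cs h T X) (sup_B R hG hUS) _ hcl s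
  have hmean : classInner (fun u : UU cs h X => (ξ : Y → ℂ) u) (fU la) = 1 ∨
      classInner (fun u : UU cs h X => (ξ : Y → ℂ) u) (fU la) = -1 := by
    rw [← mG_eq_fU R D hl (Core.isIrr_isClassFunction ξ.2)]
    exact (H743.GG.count R D hG hT hm ξ).resolve_left fun h4 => h2 ((dvd_iff R D hG hT hm hN ξ).2 h4)
  have key := descent (S := S) (not_dvd_index R hG hUS)
    (Θ := indFun (RGD.B cs h T X) fun b => ((lam b : ℂˣ) : ℂ)) (Brauer.isCharacter_indFun _ (Linear.isCharacter_hom lam))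
    h1 h3 hUS (f := fU la) (fun θ hθ => fU_isInt la (Core.isCharacter_comp _ (Core.isIrr_isCharacter hθ))) hmean hθ hd
    (by rw [hres]; exact hne)
  rw [hres] at key
  refine ⟨key.1, fun k hk hk1 hb s => key.2.2 k hk (fun s => ?_) (fun u => fU_pow R D hl hk1 u) s⟩
  have h4 := fun s => congrFun hres s
  have h5 : ∀ s : S, indFun (RGD.B cs h T X) (fun b => ((lam b : ℂˣ) : ℂ)) (s : Y) =
      indFun ((RGD.B cs h T X).subgroupOf S) (fun j => ((resB S lam j : ℂˣ) : ℂ)) s := h4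
  rw [h5, h5]
  exact indFun_pow hk (fun b => by rw [map_pow, hb]) s

/-- a number coprime to the order of a group fixes the square roots of one -/
theorem pow_eq_of_sq {H : Type*} [Group H] [Finite H] (l : H →* ℂˣ) (h2 : ∀ b, l b ^ 2 = 1) {m k : ℕ} (hm : Nat.card H ∣ m)
    (hk : k.Coprime m) (b : H) : l b ^ k = l b := by
  rcases Nat.even_or_odd k with ⟨j, hj⟩ | ⟨j, hj⟩
  · have h3 : (2 : ℕ).Coprime m := hk.coprime_dvd_left ⟨j, by omega⟩
    have h4 : (2 : ℕ).Coprime (Nat.card H) := h3.coprime_dvd_right hm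
    have h5 : l b ^ Nat.card H = 1 := by rw [← map_pow, pow_card_eq_one', map_one]
    have h6 : orderOf (l b) ∣ 1 := by
      rw [← h4]
      exact Nat.dvd_gcd (orderOf_dvd_of_pow_eq_one (h2 b)) (orderOf_dvd_of_pow_eq_one h5)
    have h7 : l b = 1 := orderOf_eq_one_iff.1 (Nat.dvd_one.1 h6)
    rw [h7, one_pow]
  · rw [hj, pow_succ, pow_mul, h2, one_pow, one_mul]

theorem h_three_cyc [Finite W] [Fintype Y] [∀ i, Finite (F i)] (hG : GG cs h T X = ⊤)
    (hT : ∀ t : T, (∀ i, D.a i t = 1) → t = 1) (hm : MultOne cs h T X) [hp : Fact p.Prime]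
    (hN : ∀ f : ↥(UU cs h X) →* ℂˣ, ∀ u, (∀ i, co R D i u = 1) → f u = 1) (S : Subgroup Y) [S.Normal] [Fintype S]
    (hUS : UU cs h X ≤ S) (lam : ↥(RGD.B cs h T X) →* ℂˣ)
    (hlam : ∀ u (hu : u ∈ RGD.Sup X (RGD.Pos cs h)), lam ⟨u, RGD.U_le_B hu⟩ = 1)
    (h2 : ∀ b, resB S lam b ^ 2 = 1) {θ : S → ℂ} (hθ : IsIrrCharacter S θ) (hd : ¬ p ∣ charDegree θ)
    (hne : classInner (indFun ((RGD.B cs h T X).subgroupOf S) fun j => ((resB S lam j : ℂˣ) : ℂ)) θ ≠ 0) :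
    classInner (indFun ((RGD.B cs h T X).subgroupOf S) fun j => ((resB S lam j : ℂˣ) : ℂ)) θ = 1 ∧ Cyc p θ := by
  obtain ⟨h1, h3⟩ := h_three R D hG hT hm hN S hUS lam hlam hθ hd hne
  exact ⟨h1, fun k hk hk1 g => h3 k hk hk1
    (fun b => pow_eq_of_sq _ h2 (Subgroup.card_subgroup_dvd_card ((RGD.B cs h T X).subgroupOf S)) hk b) g⟩

include R D in
/-- a linear character of `B ∩ S` trivial on `U` extends to `B` -/
theorem exists_resB [Finite W] [Finite Y] (hT : ∀ t : T, (∀ i, D.a i t = 1) → t = 1) (S : Subgroup Y)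
    (hUS : UU cs h X ≤ S) (lam : ↥((RGD.B cs h T X).subgroupOf S) →* ℂˣ)
    (hlam : ∀ u (hu : u ∈ RGD.Sup X (RGD.Pos cs h)), lam ⟨⟨u, hUS hu⟩, Subgroup.mem_subgroupOf.2 (RGD.U_le_B hu)⟩ = 1) :
    ∃ lam' : ↥(RGD.B cs h T X) →* ℂˣ, (∀ u (hu : u ∈ RGD.Sup X (RGD.Pos cs h)), lam' ⟨u, RGD.U_le_B hu⟩ = 1) ∧
      resB S lam' = lam := by
  classical
  have hcomm : ∀ x y : ↥T, x * y = y * x := by
    intro x y
    have h1 : x * y * (y * x)⁻¹ = 1 := hT _ fun i => by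
      rw [map_mul, map_mul, map_inv, map_mul, mul_comm (D.a i x), mul_inv_cancel]
    exact mul_inv_eq_one.1 h1
  let _ : CommGroup ↥T := { (inferInstance : Group ↥T) with mul_comm := hcomm }
  let μ₀ : ↥(S.subgroupOf T) →* ℂˣ := lam.comp
    { toFun := fun t => ⟨⟨((t : T) : Y), Subgroup.mem_subgroupOf.1 t.2⟩, Subgroup.mem_subgroupOf.2 (RGD.T_le_B (t : T).2)⟩
      map_one' := rfl
      map_mul' := fun _ _ => rfl }
  obtain ⟨μ, hμ⟩ := MonoidHom.domRestrict_surjective ℂ (S.subgroupOf T) μ₀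
  refine ⟨infl R μ, fun u hu => infl_U R μ hu _, ?_⟩
  ext ⟨⟨y, hyS⟩, hyB⟩
  congr 1
  have hyB' : y ∈ RGD.B cs h T X := Subgroup.mem_subgroupOf.1 hyB
  obtain ⟨t, ht, u, hu, e⟩ := R.mem_B.1 hyB'
  have huS : u ∈ S := hUS hu
  have htS : t ∈ S := by
    have h1 : t = y * u⁻¹ := by rw [e]; group
    rw [h1]
    exact mul_mem hyS (inv_mem huS)
  have e1 : (⟨⟨y, hyS⟩, hyB⟩ : ↥((RGD.B cs h T X).subgroupOf S)) =
      ⟨⟨t, htS⟩, Subgroup.mem_subgroupOf.2 (RGD.T_le_B ht)⟩ * ⟨⟨u, huS⟩, Subgroup.mem_subgroupOf.2 (RGD.U_le_B hu)⟩ := by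
    apply Subtype.ext
    apply Subtype.ext
    exact e
  rw [e1, map_mul, map_mul, hlam u hu]
  have h2 : resB S (infl R μ) ⟨⟨u, huS⟩, Subgroup.mem_subgroupOf.2 (RGD.U_le_B hu)⟩ = 1 := infl_U R μ hu _
  rw [h2, mul_one, mul_one]
  have h3 : resB S (infl R μ) ⟨⟨t, htS⟩, Subgroup.mem_subgroupOf.2 (RGD.T_le_B ht)⟩ = μ ⟨t, ht⟩ := infl_T R μ ht _
  rw [h3]
  exact DFunLike.congr_fun hμ ⟨⟨t, ht⟩, Subgroup.mem_subgroupOf.2 htS⟩

/-- **(H3)**, for a linear character of `B ∩ S`. -/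
theorem h_three' [Finite W] [Fintype Y] [∀ i, Finite (F i)] (hG : GG cs h T X = ⊤)
    (hT : ∀ t : T, (∀ i, D.a i t = 1) → t = 1) (hm : MultOne cs h T X) [hp : Fact p.Prime]
    (hN : ∀ f : ↥(UU cs h X) →* ℂˣ, ∀ u, (∀ i, co R D i u = 1) → f u = 1) (S : Subgroup Y) [S.Normal] [Fintype S]
    (hUS : UU cs h X ≤ S) (lam : ↥((RGD.B cs h T X).subgroupOf S) →* ℂˣ)
    (hlam : ∀ u (hu : u ∈ RGD.Sup X (RGD.Pos cs h)), lam ⟨⟨u, hUS hu⟩, Subgroup.mem_subgroupOf.2 (RGD.U_le_B hu)⟩ = 1)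
    {θ : S → ℂ} (hθ : IsIrrCharacter S θ) (hd : ¬ p ∣ charDegree θ)
    (hne : classInner (indFun ((RGD.B cs h T X).subgroupOf S) fun j => ((lam j : ℂˣ) : ℂ)) θ ≠ 0) :
    classInner (indFun ((RGD.B cs h T X).subgroupOf S) fun j => ((lam j : ℂˣ) : ℂ)) θ = 1 ∧
      ∀ k : ℕ, k.Coprime (Nat.card S) → k ≡ 1 [MOD p] → (∀ b, lam b ^ k = lam b) → ∀ s : S, θ (s ^ k) = θ s := by
  obtain ⟨lam', h1, h2⟩ := exists_resB R D hT S hUS lam hlam
  have h3 := h_three R D hG hT hm hN S hUS lam' h1 hθ hd (by rw [h2]; exact hne)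
  rw [h2] at h3
  exact h3

theorem h_three_cyc' [Finite W] [Fintype Y] [∀ i, Finite (F i)] (hG : GG cs h T X = ⊤)
    (hT : ∀ t : T, (∀ i, D.a i t = 1) → t = 1) (hm : MultOne cs h T X) [hp : Fact p.Prime]
    (hN : ∀ f : ↥(UU cs h X) →* ℂˣ, ∀ u, (∀ i, co R D i u = 1) → f u = 1) (S : Subgroup Y) [S.Normal] [Fintype S]
    (hUS : UU cs h X ≤ S) (lam : ↥((RGD.B cs h T X).subgroupOf S) →* ℂˣ)
    (hlam : ∀ u (hu : u ∈ RGD.Sup X (RGD.Pos cs h)), lam ⟨⟨u, hUS hu⟩, Subgroup.mem_subgroupOf.2 (RGD.U_le_B hu)⟩ = 1)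
    (h2 : ∀ b, lam b ^ 2 = 1) {θ : S → ℂ} (hθ : IsIrrCharacter S θ) (hd : ¬ p ∣ charDegree θ)
    (hne : classInner (indFun ((RGD.B cs h T X).subgroupOf S) fun j => ((lam j : ℂˣ) : ℂ)) θ ≠ 0) :
    classInner (indFun ((RGD.B cs h T X).subgroupOf S) fun j => ((lam j : ℂˣ) : ℂ)) θ = 1 ∧ Cyc p θ := by
  obtain ⟨h1, h3⟩ := h_three' R D hG hT hm hN S hUS lam hlam hθ hd hne
  exact ⟨h1, fun k hk hk1 g => h3 k hk hk1
    (fun b => pow_eq_of_sq _ h2 (Subgroup.card_subgroup_dvd_card ((RGD.B cs h T X).subgroupOf S)) hk b) g⟩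

end Cfsg.Agent.H151.OC
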