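import Cfsg.Agent.H151.OC.Uniq

/-!
# The semisimple character of a linear character of `B` (S4829, S4884, own characteristic; helper151)

`R : RGD`, `D : Adj` (helper148), `GG = ⊤`, `hT` (rigidity), `MultOne`, `hN` (linear characters of `U`).

* `uniq_infl`, `uniq_B` : for a linear character `lam` of `B` trivial on `U` exactly one irreducible constituent `ξ` of
  `indFun B lam` has degree prime to `p`; its multiplicity is one;
* `semisimple` : `lam ≠ 1`: `ξ ≠ 1`, `ξ` is fixed by the `k`-th power if `lam b ^ k = lam b` for all `b`, by the automorphisms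
  fixing `B` and `lam`, and by all automorphisms fixing the induced character;
* `semisimple_rational` : `lam ^ 2 = 1`.
-/

set_option autoImplicit false

open scoped ComplexConjugate
open Cfsg

namespace Cfsg.Agent.H151.OC

open Cfsg.Agent.Characters
open Cfsg.Agent.H53.HC Cfsg.Agent.H641.Gow Cfsg.Agent.H148.GG Cfsg.Agent.H743.GG Cfsg.Agent.H40.OC Cfsg.Agent.H684.OQ
  Cfsg.Agent.H381.OQ

open CoxeterSystem Cfsg.Agent.ChevalleyStructure.CoxeterGeom Cfsg.Agent.Tits.Roots Cfsg.Agent.Tits.Core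
  Cfsg.Agent.Tits.Exchange Cfsg.Agent.Nodes.Reps Cfsg.Agent.Nodes.BNOf Cfsg.Agent.Nodes.StabComb
  Cfsg.Agent.Nodes.Bruhat Cfsg.Agent.Nodes.OppDec Cfsg.Agent.Nodes.LeviDec

universe u

variable {I W : Type*} {Y : Type u} [Fintype I] [DecidableEq I] [Group W] [Group Y] {M : CoxeterMatrix I}
  {cs : CoxeterSystem M W} {A : I → I → ℤ} {h : IsCartan M A} {p : ℕ} {T : Subgroup Y} {n : I → Y}
  {X : (I → ℤ) → Subgroup Y}

theorem UJ_empty : UJ cs h X (∅ : Set I) = ⊥ := by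
  rw [eq_bot_iff]
  refine RGD.Sup_le fun x hx => ?_
  exact absurd (funext fun k => hx.2.2 k (Set.notMem_empty k)) hx.1.ne_zero

variable (R : RGD cs h p T n X)

/-- `HC R ∅ μ = Ind_B^Y μ` -/
theorem HC_empty [Finite W] [Fintype Y] (μ : ↥T →* ℂˣ) :
    HC R ∅ (chT cs h X μ) = indFun (RGD.B cs h T X) fun b => ((infl R μ b : ℂˣ) : ℂ) := by
  have hPB : PJ cs h T X ∅ = RGD.B cs h T X := KFacts.RgdVJ.PJ_empty R
  funext g
  change (Nat.card (PJ cs h T X ∅) : ℂ)⁻¹ * ∑ x : Y, extendByZero (PJ cs h T X ∅) (chT cs h X μ ∘ projL R ∅) (x⁻¹ * g * x) =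
    (Nat.card (RGD.B cs h T X) : ℂ)⁻¹ * ∑ x : Y, extendByZero (RGD.B cs h T X) (fun b => ((infl R μ b : ℂˣ) : ℂ)) (x⁻¹ * g * x)
  rw [Nat.card_congr (MulEquiv.subgroupCongr hPB).toEquiv]
  congr 1
  refine Finset.sum_congr rfl fun x _ => ?_
  generalize x⁻¹ * g * x = y
  by_cases hy : y ∈ RGD.B cs h T X
  · have hy' : y ∈ PJ cs h T X ∅ := by rw [hPB]; exact hy
    have h1 : extendByZero (PJ cs h T X ∅) (chT cs h X μ ∘ projL R ∅) ((⟨y, hy'⟩ : ↥(PJ cs h T X ∅)) : Y) =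
        (chT cs h X μ ∘ projL R ∅) ⟨y, hy'⟩ := Subtype.val_injective.extend_apply _ _ _
    have h2 : extendByZero (RGD.B cs h T X) (fun b => ((infl R μ b : ℂˣ) : ℂ)) ((⟨y, hy⟩ : ↥(RGD.B cs h T X)) : Y) =
        ((infl R μ ⟨y, hy⟩ : ℂˣ) : ℂ) := Subtype.val_injective.extend_apply _ _ _
    have h3 : (chT cs h X μ ∘ projL R ∅) ⟨y, hy'⟩ = ((infl R μ ⟨y, hy⟩ : ℂˣ) : ℂ) :=
      congrArg (fun t => ((μ t : ℂˣ) : ℂ)) (projL_eq R hy' hy)
    exact h1.trans (h3.trans h2.symm)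
  · have hy' : y ∉ PJ cs h T X ∅ := by rw [hPB]; exact hy
    have h1 : extendByZero (PJ cs h T X ∅) (chT cs h X μ ∘ projL R ∅) y = 0 :=
      Function.extend_apply' _ _ _ (by rintro ⟨a, rfl⟩; exact hy' a.2)
    have h2 : extendByZero (RGD.B cs h T X) (fun b => ((infl R μ b : ℂˣ) : ℂ)) y = 0 :=
      Function.extend_apply' _ _ _ (by rintro ⟨a, rfl⟩; exact hy a.2)
    rw [h1, h2]

/-- a linear character of `B` trivial on `U` is an inflation -/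
theorem infl_res [Finite W] {lam : ↥(RGD.B cs h T X) →* ℂˣ}
    (hlam : ∀ u (hu : u ∈ RGD.Sup X (RGD.Pos cs h)), lam ⟨u, RGD.U_le_B hu⟩ = 1) :
    infl R (lam.comp (Subgroup.inclusion RGD.T_le_B)) = lam := by
  ext ⟨b, hb⟩
  congr 1
  obtain ⟨t, ht, u, hu, e⟩ := R.mem_B.1 hb
  subst e
  have e2 : (⟨t * u, hb⟩ : ↥(RGD.B cs h T X)) = ⟨t, RGD.T_le_B ht⟩ * ⟨u, RGD.U_le_B hu⟩ := rfl
  rw [e2, map_mul, map_mul, infl_T R _ ht, infl_U R _ hu, hlam u hu]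
  rfl

variable {F : I → Type*} [∀ i, Field (F i)] (D : Adj T X F)

/-- **Uniqueness of the constituent of degree prime to `p` of `Ind_B^Y μ`.** -/
theorem uniq_infl [Finite W] [Fintype Y] [∀ i, Finite (F i)] (hG : GG cs h T X = ⊤)
    (hT : ∀ t : T, (∀ i, D.a i t = 1) → t = 1) (hm : MultOne cs h T X) [hp : Fact p.Prime]
    (hN : ∀ f : ↥(UU cs h X) →* ℂˣ, ∀ u, (∀ i, co R D i u = 1) → f u = 1) (μ : ↥T →* ℂˣ) :
    ∃ ξ : IrrCharacter Y, classInner (indFun (RGD.B cs h T X) fun b => ((infl R μ b : ℂˣ) : ℂ)) (ξ : Y → ℂ) = 1 ∧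
      ¬ p ∣ charDegree (ξ : Y → ℂ) ∧
      ∀ χ : IrrCharacter Y, classInner (indFun (RGD.B cs h T X) fun b => ((infl R μ b : ℂˣ) : ℂ)) (χ : Y → ℂ) ≠ 0 →
        ¬ p ∣ charDegree (χ : Y → ℂ) → χ = ξ := by
  classical
  obtain ⟨ψ, hψ⟩ := exists_nd R D
  have : Fintype ↥(UJ cs h X (∅ : Set I)) := Fintype.ofFinite _
  have h1 := uniq_deg R D hG hT hm hN hψ ∅ (isIrr_chT (cs := cs) (h := h) (X := X) μ) (cusp_chT _) (by
    rw [Core.classInner_def]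
    have h2 : Subsingleton ↥(UJ cs h X (∅ : Set I)) := by
      rw [UJ_empty]
      infer_instance
    have h3 : Nat.card ↥(UJ cs h X (∅ : Set I)) = 1 := by
      rw [Nat.card_eq_one_iff_unique]
      exact ⟨h2, ⟨1⟩⟩
    rw [h3, Fintype.sum_subsingleton _ (1 : ↥(UJ cs h X (∅ : Set I))), Function.comp_apply, map_one, map_one]
    simp [chT])
  rw [HC_empty] at h1
  exact h1

theorem uniq_B [Finite W] [Fintype Y] [∀ i, Finite (F i)] (hG : GG cs h T X = ⊤)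
    (hT : ∀ t : T, (∀ i, D.a i t = 1) → t = 1) (hm : MultOne cs h T X) [hp : Fact p.Prime]
    (hN : ∀ f : ↥(UU cs h X) →* ℂˣ, ∀ u, (∀ i, co R D i u = 1) → f u = 1) (lam : ↥(RGD.B cs h T X) →* ℂˣ)
    (hlam : ∀ u (hu : u ∈ RGD.Sup X (RGD.Pos cs h)), lam ⟨u, RGD.U_le_B hu⟩ = 1) :
    ∃ ξ : IrrCharacter Y, classInner (indFun (RGD.B cs h T X) fun b => ((lam b : ℂˣ) : ℂ)) (ξ : Y → ℂ) = 1 ∧
      ¬ p ∣ charDegree (ξ : Y → ℂ) ∧
      ∀ χ : IrrCharacter Y, classInner (indFun (RGD.B cs h T X) fun b => ((lam b : ℂˣ) : ℂ)) (χ : Y → ℂ) ≠ 0 →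
        ¬ p ∣ charDegree (χ : Y → ℂ) → χ = ξ := by
  have h1 := uniq_infl R D hG hT hm hN (lam.comp (Subgroup.inclusion RGD.T_le_B))
  rw [infl_res R hlam] at h1
  exact h1

/-- **The semisimple character** of a linear character of `B`. -/
theorem semisimple [Finite W] [Fintype Y] [∀ i, Finite (F i)] (hG : GG cs h T X = ⊤)
    (hT : ∀ t : T, (∀ i, D.a i t = 1) → t = 1) (hm : MultOne cs h T X) [hp : Fact p.Prime]
    (hN : ∀ f : ↥(UU cs h X) →* ℂˣ, ∀ u, (∀ i, co R D i u = 1) → f u = 1) (lam : ↥(RGD.B cs h T X) →* ℂˣ)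
    (hlam : ∀ u (hu : u ∈ RGD.Sup X (RGD.Pos cs h)), lam ⟨u, RGD.U_le_B hu⟩ = 1) (hne : lam ≠ 1) :
    ∃ ξ : IrrCharacter Y, classInner (indFun (RGD.B cs h T X) fun b => ((lam b : ℂˣ) : ℂ)) (ξ : Y → ℂ) = 1 ∧
      ¬ p ∣ charDegree (ξ : Y → ℂ) ∧ (ξ : Y → ℂ) ≠ (fun _ => 1) ∧
      (∀ χ : IrrCharacter Y, classInner (indFun (RGD.B cs h T X) fun b => ((lam b : ℂˣ) : ℂ)) (χ : Y → ℂ) ≠ 0 →
        ¬ p ∣ charDegree (χ : Y → ℂ) → χ = ξ) ∧
      (∀ k : ℕ, k.Coprime (Nat.card Y) → (∀ b, lam b ^ k = lam b) → ∀ g, (ξ : Y → ℂ) (g ^ k) = (ξ : Y → ℂ) g) ∧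
      (∀ σ : Y ≃* Y, (∀ x, σ x ∈ RGD.B cs h T X ↔ x ∈ RGD.B cs h T X) →
        (∀ x (hx : x ∈ RGD.B cs h T X) (hx' : σ x ∈ RGD.B cs h T X), lam ⟨σ x, hx'⟩ = lam ⟨x, hx⟩) →
        ∀ g, (ξ : Y → ℂ) (σ g) = (ξ : Y → ℂ) g) := by
  classical
  obtain ⟨ξ, h1, h2, h3⟩ := uniq_B R D hG hT hm hN lam hlam
  have h1' : classInner (indFun (RGD.B cs h T X) fun b => ((lam b : ℂˣ) : ℂ)) (ξ : Y → ℂ) ≠ 0 := by
    rw [h1]
    exact one_ne_zero
  have : Fintype ↥(RGD.B cs h T X) := Fintype.ofFinite _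
  refine ⟨ξ, h1, h2, fun he => ?_, h3, fun k hk hl g => ?_, fun σ hB hf g => ?_⟩
  · apply h1'
    rw [he, Cfsg.Agent.OddOrderCharacters.Clifford.classInner_indFun _ _ _
      (Core.isIrr_isClassFunction Cfsg.Agent.Blocks.Basic.isIrrCharacter_one)]
    rw [Core.classInner_def]
    have h4 : ∑ b : ↥(RGD.B cs h T X), ((lam b : ℂˣ) : ℂ) = 0 := by
      obtain ⟨b₀, hb₀⟩ : ∃ b₀, lam b₀ ≠ 1 := by
        by_contra hcon
        push Not at hcon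
        exact hne (MonoidHom.ext hcon)
      have h5 : ((lam b₀ : ℂˣ) : ℂ) * ∑ b : ↥(RGD.B cs h T X), ((lam b : ℂˣ) : ℂ) =
          ∑ b : ↥(RGD.B cs h T X), ((lam b : ℂˣ) : ℂ) := by
        rw [Finset.mul_sum]
        refine Fintype.sum_equiv (Equiv.mulLeft b₀) _ _ fun b => ?_
        rw [Equiv.coe_mulLeft, map_mul, Units.val_mul]
      have h6 : (((lam b₀ : ℂˣ) : ℂ) - 1) * ∑ b : ↥(RGD.B cs h T X), ((lam b : ℂˣ) : ℂ) = 0 := by
        rw [sub_mul, h5, one_mul, sub_self]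
      refine (mul_eq_zero.1 h6).resolve_left fun h7 => hb₀ (Units.ext ?_)
      rw [Units.val_one]
      exact sub_eq_zero.1 h7
    simp only [map_one, mul_one]
    rw [h4, mul_zero]
  · refine fixed_pow h1' h2 h3 hk (fun g => indFun_pow hk (fun b => ?_) g) g
    rw [map_pow, hl]
  · refine fixed_aut h1' h2 h3 σ (fun g => indFun_aut σ hB (fun x hx hx' => ?_) g) g
    rw [hf x hx hx']

/-- **The semisimple character of a linear character of order two is rational.** -/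
theorem semisimple_rational [Finite W] [Fintype Y] [∀ i, Finite (F i)] (hG : GG cs h T X = ⊤)
    (hT : ∀ t : T, (∀ i, D.a i t = 1) → t = 1) (hm : MultOne cs h T X) [hp : Fact p.Prime]
    (hN : ∀ f : ↥(UU cs h X) →* ℂˣ, ∀ u, (∀ i, co R D i u = 1) → f u = 1) (lam : ↥(RGD.B cs h T X) →* ℂˣ)
    (hlam : ∀ u (hu : u ∈ RGD.Sup X (RGD.Pos cs h)), lam ⟨u, RGD.U_le_B hu⟩ = 1) (hne : lam ≠ 1)
    (h2 : ∀ b, lam b ^ 2 = 1) :
    ∃ ξ : IrrCharacter Y, classInner (indFun (RGD.B cs h T X) fun b => ((lam b : ℂˣ) : ℂ)) (ξ : Y → ℂ) = 1 ∧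
      ¬ p ∣ charDegree (ξ : Y → ℂ) ∧ (ξ : Y → ℂ) ≠ (fun _ => 1) ∧
      (∀ χ : IrrCharacter Y, classInner (indFun (RGD.B cs h T X) fun b => ((lam b : ℂˣ) : ℂ)) (χ : Y → ℂ) ≠ 0 →
        ¬ p ∣ charDegree (χ : Y → ℂ) → χ = ξ) ∧
      (∀ k : ℕ, k.Coprime (Nat.card Y) → ∀ g, (ξ : Y → ℂ) (g ^ k) = (ξ : Y → ℂ) g) ∧
      (∀ σ : Y ≃* Y, (∀ x, σ x ∈ RGD.B cs h T X ↔ x ∈ RGD.B cs h T X) →
        (∀ x (hx : x ∈ RGD.B cs h T X) (hx' : σ x ∈ RGD.B cs h T X), lam ⟨σ x, hx'⟩ = lam ⟨x, hx⟩) →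
        ∀ g, (ξ : Y → ℂ) (σ g) = (ξ : Y → ℂ) g) := by
  obtain ⟨ξ, a1, a2, a3, a4, a5, a6⟩ := semisimple R D hG hT hm hN lam hlam hne
  refine ⟨ξ, a1, a2, a3, a4, fun k hk g => a5 k hk (fun b => ?_) g, a6⟩
  rcases Nat.even_or_odd k with ⟨j, hj⟩ | ⟨j, hj⟩
  · -- the order of `Y` is odd
    have h3 : (2 : ℕ).Coprime (Nat.card Y) := hk.coprime_dvd_left ⟨j, by omega⟩
    have h4 : (2 : ℕ).Coprime (Nat.card ↥(RGD.B cs h T X)) := h3.coprime_dvd_right (Subgroup.card_subgroup_dvd_card _)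
    have h5 : lam b ^ Nat.card ↥(RGD.B cs h T X) = 1 := by rw [← map_pow, pow_card_eq_one', map_one]
    have h6 : orderOf (lam b) ∣ 1 := by
      rw [← h4]
      exact Nat.dvd_gcd (orderOf_dvd_of_pow_eq_one (h2 b)) (orderOf_dvd_of_pow_eq_one h5)
    have h7 : lam b = 1 := orderOf_eq_one_iff.1 (Nat.dvd_one.1 h6)
    rw [h7, one_pow]
  · rw [hj, pow_succ, pow_mul, h2, one_pow, one_mul]

end Cfsg.Agent.H151.OC
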