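import Cfsg.Agent.H151.OC.UniqAbs
import Cfsg.Agent.H743.GG.Count
import Cfsg.Agent.H40.OC.Fin
import Cfsg.Agent.H381.OQ.MackeyB
import Cfsg.Agent.H788.RatB.Rat

/-!
# Uniqueness of the semisimple character of a series (S4829, S4884, own characteristic; helper151)

`R : RGD`, `D : Adj` (helper148), `GG = ⊤`, `hT` (rigidity), `MultOne`, `hN` (linear characters of `U`).

* `uniq` : for a cuspidal pair `(J, α)` with `[α, ψ_J] ≠ 0` exactly one irreducible constituent `ξ` of `HC R J α` has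
  `mG R D ξ ≠ 0`; its multiplicity is one;
* `dvd_iff` : `p ∣ charDegree χ ↔ mG R D χ = 0`;
* `uniq_deg` : the same for the degree prime to `p`;
* `uniq_B` : the case `J = ∅`, in terms of `infl R μ : B →* ℂˣ`;
* `fixed_of_uniq` : the unique constituent is fixed by everything fixing the induced character;
* `semisimple_rational` : `μ ≠ 1`, `μ² = 1`.
-/

set_option autoImplicit false

open scoped ComplexConjugate
open Cfsg

namespace Cfsg.Agent.H151.OC

open Cfsg.Agent.Characters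
open Cfsg.Agent.H53.HC Cfsg.Agent.H641.Gow Cfsg.Agent.H148.GG Cfsg.Agent.H743.GG Cfsg.Agent.H40.OC

open CoxeterSystem Cfsg.Agent.ChevalleyStructure.CoxeterGeom Cfsg.Agent.Tits.Roots Cfsg.Agent.Tits.Core
  Cfsg.Agent.Tits.Exchange Cfsg.Agent.Nodes.Reps Cfsg.Agent.Nodes.BNOf Cfsg.Agent.Nodes.StabComb
  Cfsg.Agent.Nodes.Bruhat Cfsg.Agent.Nodes.OppDec Cfsg.Agent.Nodes.LeviDec

universe u

/-! ### Fixed points -/

section Fix

variable {G : Type u} [Group G] [Fintype G]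

/-- the inner product is invariant under permutations -/
theorem classInner_comp_equiv (e : G ≃ G) (θ χ : G → ℂ) : classInner (θ ∘ e) (χ ∘ e) = classInner θ χ := by
  rw [Core.classInner_def, Core.classInner_def]
  congr 1
  exact Fintype.sum_equiv e _ _ fun g => rfl

/-- **the unique constituent is fixed by everything fixing the induced character** -/
theorem fixed_of_uniq {θ : G → ℂ} {p : ℕ} {ξ : IrrCharacter G} (h1 : classInner θ (ξ : G → ℂ) ≠ 0)
    (hd : ¬ p ∣ charDegree (ξ : G → ℂ))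
    (hu : ∀ χ : IrrCharacter G, classInner θ (χ : G → ℂ) ≠ 0 → ¬ p ∣ charDegree (χ : G → ℂ) → χ = ξ)
    (e : G ≃ G) (he : e 1 = 1) (hirr : IsIrrCharacter G ((ξ : G → ℂ) ∘ e)) (hθ : ∀ g, θ (e g) = θ g) (g : G) :
    (ξ : G → ℂ) (e g) = (ξ : G → ℂ) g := by
  have h2 := hu ⟨(ξ : G → ℂ) ∘ e, hirr⟩ (by
    change classInner θ ((ξ : G → ℂ) ∘ e) ≠ 0
    rw [show θ = θ ∘ e from (funext hθ).symm, classInner_comp_equiv]
    exact h1) (by
    have h3 : charDegree ((ξ : G → ℂ) ∘ e) = charDegree (ξ : G → ℂ) := by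
      obtain ⟨d, hd'⟩ := Core.isCharacter_apply_one (Core.isIrr_isCharacter ξ.2)
      rw [Cfsg.Agent.Blocks.Basic.charDegree_of_eq hd',
        Cfsg.Agent.Blocks.Basic.charDegree_of_eq (χ := (ξ : G → ℂ) ∘ e) (n := d) (by
          rw [Function.comp_apply, he, hd'])]
    change ¬ p ∣ charDegree ((ξ : G → ℂ) ∘ e)
    rw [h3]
    exact hd)
  exact congrFun (congrArg Subtype.val h2) g

/-- powers -/
theorem fixed_pow {θ : G → ℂ} {p : ℕ} {ξ : IrrCharacter G} (h1 : classInner θ (ξ : G → ℂ) ≠ 0)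
    (hd : ¬ p ∣ charDegree (ξ : G → ℂ))
    (hu : ∀ χ : IrrCharacter G, classInner θ (χ : G → ℂ) ≠ 0 → ¬ p ∣ charDegree (χ : G → ℂ) → χ = ξ)
    {k : ℕ} (hk : k.Coprime (Nat.card G)) (hθ : ∀ g, θ (g ^ k) = θ g) (g : G) :
    (ξ : G → ℂ) (g ^ k) = (ξ : G → ℂ) g :=
  fixed_of_uniq h1 hd hu (powCoprime (n := k) hk.symm) (by simp)
    (Cfsg.Agent.H788.RatB.isIrr_pow hk ξ.2) hθ g

/-- automorphisms -/
theorem fixed_aut {θ : G → ℂ} {p : ℕ} {ξ : IrrCharacter G} (h1 : classInner θ (ξ : G → ℂ) ≠ 0)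
    (hd : ¬ p ∣ charDegree (ξ : G → ℂ))
    (hu : ∀ χ : IrrCharacter G, classInner θ (χ : G → ℂ) ≠ 0 → ¬ p ∣ charDegree (χ : G → ℂ) → χ = ξ)
    (σ : G ≃* G) (hθ : ∀ g, θ (σ g) = θ g) (g : G) : (ξ : G → ℂ) (σ g) = (ξ : G → ℂ) g :=
  fixed_of_uniq h1 hd hu σ.toEquiv (map_one σ) (Core.isIrr_comp σ.toMonoidHom σ.surjective ξ.2) hθ g

omit [Fintype G] in
/-- a subgroup contains an element iff it contains its `k`-th power -/
theorem pow_mem_iff [Finite G] {k : ℕ} (hk : k.Coprime (Nat.card G)) (B : Subgroup G) (g : G) : g ^ k ∈ B ↔ g ∈ B := by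
  refine ⟨fun h => ?_, fun h => pow_mem h _⟩
  obtain ⟨j, hj⟩ := exists_pow_eq_self_of_coprime (Nat.Coprime.coprime_dvd_right (orderOf_dvd_natCard g) hk)
  rw [← hj]
  exact pow_mem h j

omit [Fintype G] in
/-- extension by zero along a bijection preserving `B` and the function -/
theorem extendByZero_equiv {B : Subgroup G} {f : ↥B → ℂ} (e : G → G) (hB : ∀ x, e x ∈ B ↔ x ∈ B)
    (hf : ∀ x (hx : x ∈ B) (hx' : e x ∈ B), f ⟨e x, hx'⟩ = f ⟨x, hx⟩) (x : G) :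
    extendByZero B f (e x) = extendByZero B f x := by
  by_cases h : x ∈ B
  · have h' := (hB x).2 h
    have h1 : extendByZero B f ((⟨x, h⟩ : B) : G) = f ⟨x, h⟩ := Subtype.val_injective.extend_apply _ _ _
    have h2 : extendByZero B f ((⟨e x, h'⟩ : B) : G) = f ⟨e x, h'⟩ := Subtype.val_injective.extend_apply _ _ _
    exact (h2.trans (hf x h h')).trans h1.symm
  · have h' : e x ∉ B := fun h' => h ((hB x).1 h')
    have h1 : extendByZero B f x = 0 := Function.extend_apply' _ _ _ (by rintro ⟨a, rfl⟩; exact h a.2)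
    have h2 : extendByZero B f (e x) = 0 := Function.extend_apply' _ _ _ (by rintro ⟨a, ha⟩; exact h' (ha ▸ a.2))
    rw [h1, h2]

/-- induction from a function fixed by the `k`-th power -/
theorem indFun_pow {B : Subgroup G} {f : ↥B → ℂ} {k : ℕ} (hk : k.Coprime (Nat.card G)) (hf : ∀ b : ↥B, f (b ^ k) = f b)
    (g : G) : indFun B f (g ^ k) = indFun B f g := by
  change (Nat.card B : ℂ)⁻¹ * ∑ x : G, extendByZero B f (x⁻¹ * g ^ k * x) =
    (Nat.card B : ℂ)⁻¹ * ∑ x : G, extendByZero B f (x⁻¹ * g * x)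
  congr 1
  refine Finset.sum_congr rfl fun x _ => ?_
  have h1 := conj_pow (i := k) (a := x⁻¹) (b := g)
  rw [inv_inv] at h1
  rw [← h1]
  exact extendByZero_equiv (fun y => y ^ k) (pow_mem_iff hk B) (fun y hy hy' => hf ⟨y, hy⟩) _

/-- induction from a function fixed by an automorphism -/
theorem indFun_aut {B : Subgroup G} {f : ↥B → ℂ} (σ : G ≃* G) (hB : ∀ x, σ x ∈ B ↔ x ∈ B)
    (hf : ∀ x (hx : x ∈ B) (hx' : σ x ∈ B), f ⟨σ x, hx'⟩ = f ⟨x, hx⟩) (g : G) : indFun B f (σ g) = indFun B f g := by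
  change (Nat.card B : ℂ)⁻¹ * ∑ x : G, extendByZero B f (x⁻¹ * σ g * x) =
    (Nat.card B : ℂ)⁻¹ * ∑ x : G, extendByZero B f (x⁻¹ * g * x)
  congr 1
  rw [← σ.toEquiv.sum_comp]
  refine Finset.sum_congr rfl fun x _ => ?_
  have h1 : (σ x)⁻¹ * σ g * σ x = σ (x⁻¹ * g * x) := by rw [map_mul, map_mul, map_inv]
  change extendByZero B f ((σ x)⁻¹ * σ g * σ x) = _
  rw [h1]
  exact extendByZero_equiv σ hB hf _

end Fix

variable {I W : Type*} {Y : Type u} [Fintype I] [DecidableEq I] [Group W] [Group Y] {M : CoxeterMatrix I}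
  {cs : CoxeterSystem M W} {A : I → I → ℤ} {h : IsCartan M A} {p : ℕ} {T : Subgroup Y} {n : I → Y}
  {X : (I → ℤ) → Subgroup Y}

variable (R : RGD cs h p T n X) {F : I → Type*} [∀ i, Field (F i)] (D : Adj T X F)

/-- **Uniqueness of the generic constituent of a series.** -/
theorem uniq [Finite W] [Fintype Y] [∀ i, Finite (F i)] (hG : GG cs h T X = ⊤)
    (hT : ∀ t : T, (∀ i, D.a i t = 1) → t = 1) (hm : MultOne cs h T X) {ψ : ↥(UJ cs h X Set.univ) →* ℂˣ}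
    (hψ : Nd cs h X Set.univ ψ) (J : Set I) [Fintype ↥(UJ cs h X J)] {α : ↥(LJ cs h T X J) → ℂ}
    (hα : IsIrrCharacter _ α) (hc : CuspL cs h T X J α)
    (hne : classInner (α ∘ Subgroup.inclusion (H148.GG.UJ_le_LJ (cs := cs) (h := h) (T := T) (X := X) (J := J)))
      (fun u : ↥(UJ cs h X J) => ((ψ.comp (Subgroup.inclusion H148.GG.UJ_le_U)) u : ℂ)) ≠ 0) :
    ∃ ξ : IrrCharacter Y, classInner (HC R J α) (ξ : Y → ℂ) = 1 ∧ mG R D (ξ : Y → ℂ) ≠ 0 ∧
      ∀ χ : IrrCharacter Y, classInner (HC R J α) (χ : Y → ℂ) ≠ 0 → mG R D (χ : Y → ℂ) ≠ 0 → χ = ξ := by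
  classical
  have : Fintype ↥(UJ cs h X Set.univ) := Fintype.ofFinite _
  obtain ⟨lam, hl⟩ := exists_lam R D
  have hψc : IsCharacter ↥(UJ cs h X Set.univ) (fun u => (ψ u : ℂ)) := Linear.isCharacter_hom ψ
  have hΓ : IsCharacter Y (indFun (UJ cs h X Set.univ) fun u : ↥(UJ cs h X Set.univ) => (ψ u : ℂ)) :=
    Brauer.isCharacter_indFun _ hψc
  have hfrob : ∀ ξ : Y → ℂ, IsClassFunction Y ξ →
      classInner ξ (indFun (UJ cs h X Set.univ) fun u : ↥(UJ cs h X Set.univ) => (ψ u : ℂ)) =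
        classInner (ξ ∘ (UJ cs h X Set.univ).subtype) (fun u : ↥(UJ cs h X Set.univ) => (ψ u : ℂ)) := by
    intro ξ hξ
    rw [← Core.classInner_conj_symm, Cfsg.Agent.OddOrderCharacters.Clifford.classInner_indFun _ _ _ hξ,
      Core.classInner_conj_symm]
    rfl
  have hint : ∀ χ : Y → ℂ, IsIrrCharacter Y χ → ∃ k : ℤ, mG R D χ = k := fun χ hχ =>
    mG_isInt R D (Core.isIrr_isCharacter hχ)
  have hXi : ∀ χ : Y → ℂ, IsIrrCharacter Y χ → classInner (Xi lam) χ = mG R D χ := by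
    intro χ hχ
    obtain ⟨c, hc⟩ := hint χ hχ
    rw [← Core.classInner_conj_symm, classInner_Xi R D hl (Core.isIrr_isClassFunction hχ), hc, map_intCast]
  obtain ⟨m, hM⟩ := Core.classInner_isNat hΓ hΓ
  have hle : (∏ i, Nat.card (F i)) ≤ m := by
    have h1 := gg2 R D hψ
    rw [hM, Complex.natCast_re] at h1
    exact_mod_cast h1
  have hN : classInner (Xi lam) (Xi lam) = ((∏ i, Nat.card (F i) : ℕ) : ℂ) := by
    rw [classInner_Xi_Xi R D hG hT hl]
    push_cast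
    rfl
  have hHC : ∀ l : CP cs h T X, IsCharacter Y (HC R l.J l.α) := by
    intro l
    exact Cfsg.Agent.S0148.result _ _ (Core.isCharacter_comp _ (Core.isIrr_isCharacter l.irr))
  have hf3' : ∀ (l : CP cs h T X) [Fintype ↥(UJ cs h X l.J)],
      classInner (HC R l.J l.α) (indFun (UJ cs h X Set.univ) fun u : ↥(UJ cs h X Set.univ) => (ψ u : ℂ)) =
        classInner (l.α ∘ Subgroup.inclusion (H148.GG.UJ_le_LJ (cs := cs) (h := h) (T := T) (X := X) (J := l.J)))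
          (fun u : ↥(UJ cs h X l.J) => ((ψ.comp (Subgroup.inclusion H148.GG.UJ_le_U)) u : ℂ)) := by
    intro l _
    rw [hfrob _ (Core.isCharacter_isClassFunction (hHC l))]
    exact f3 R hG D (Core.isIrr_isClassFunction l.irr) hψ hψ.res
  have hf3 : ∀ l : CP cs h T X, ∃ e : ℂ, (e = 0 ∨ e = 1) ∧
      classInner (HC R l.J l.α) (indFun (UJ cs h X Set.univ) fun u : ↥(UJ cs h X Set.univ) => (ψ u : ℂ)) = e ∧
      (classInner (HC R l.J l.α) (Xi lam) = e ∨ classInner (HC R l.J l.α) (Xi lam) = -e) := by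
    intro l
    have : Fintype ↥(LJ cs h T X l.J) := Fintype.ofFinite _
    have : Fintype ↥(UJ cs h X l.J) := Fintype.ofFinite _
    have : Fintype l.J := Fintype.ofFinite _
    have h1 := hm l.J _ (hψ.res (J := l.J)) l.α l.irr
    refine ⟨_, h1, hf3' l, ?_⟩
    rw [classInner_Xi R D hl (Core.isCharacter_isClassFunction (hHC l)), mG_HC R D hG l.J
      (Core.isIrr_isClassFunction l.irr), mJ_cusp R D (hψ.res (J := l.J)) (Core.isIrr_isCharacter l.irr) l.cusp]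
    rcases neg_one_pow_eq_or ℂ (Fintype.card l.J) with h2 | h2
    · left
      rw [h2, one_mul]
    · right
      rw [h2, neg_one_mul]
  have key := uniq_abs hΓ (fun χ hχ => ?_) (isClass_Xi lam) (fun χ hχ => ?_) hN hM hle
    (fun l : CP cs h T X => HC R l.J l.α) hHC (fun χ hχ => ?_)
    (fun l l' hne => HC_eq_of_inner R hG l.irr l'.irr l.cusp l'.cusp hne) (fun l => ?_) (fun l => ?_)
    (l₀ := ⟨J, α, hα, hc⟩) (by rw [hf3' ⟨J, α, hα, hc⟩]; exact hne)
  · obtain ⟨ξ, h1, h2, h3⟩ := key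
    refine ⟨ξ, h1, ?_, fun χ hχ hχ' => h3 χ hχ ?_⟩
    · rw [← hXi _ ξ.2]
      exact h2
    · rw [hXi _ χ.2]
      exact hχ'
  · have h1 := hm.univ hG hψ hχ
    rw [← hfrob _ (Core.isIrr_isClassFunction hχ)] at h1
    rw [← Core.classInner_conj_symm]
    rcases h1 with h1 | h1 <;> rw [h1]
    · left; simp
    · right; simp
  · obtain ⟨k, hk⟩ := hint χ hχ
    exact ⟨k, by rw [hXi χ hχ, hk]⟩
  · obtain ⟨J, α, h1, h2, h3⟩ := H45.GG.exists_series R hχ
    exact ⟨⟨J, α, h1, h2⟩, h3⟩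
  · obtain ⟨e, he, h1, -⟩ := hf3 l
    rw [h1]
    exact he
  · obtain ⟨e, -, h1, h2⟩ := hf3 l
    rw [h1]
    exact h2

/-- **the degree is divisible by `p` iff the mean is zero** -/
theorem dvd_iff [Finite W] [Finite Y] [∀ i, Finite (F i)] (hG : GG cs h T X = ⊤)
    (hT : ∀ t : T, (∀ i, D.a i t = 1) → t = 1) (hm : MultOne cs h T X) [hp : Fact p.Prime]
    (hN : ∀ f : ↥(UU cs h X) →* ℂˣ, ∀ u, (∀ i, co R D i u = 1) → f u = 1) (χ : IrrCharacter Y) :
    p ∣ charDegree (χ : Y → ℂ) ↔ mG R D (χ : Y → ℂ) = 0 := by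
  refine ⟨mG_zero_of_dvd R D hN (H743.GG.count R D hG hT hm χ), fun h0 => ?_⟩
  obtain ⟨c, d, hc, hd, hcd⟩ := mG_congr R D hN (Core.isIrr_isCharacter χ.2)
  rw [Cfsg.Agent.Blocks.Basic.charDegree_of_eq hd]
  rw [h0] at hc
  have h1 : c = 0 := by exact_mod_cast hc.symm
  rw [h1, sub_zero] at hcd
  exact_mod_cast hcd

/-- **Uniqueness of the constituent of degree prime to `p` of a series.** -/
theorem uniq_deg [Finite W] [Fintype Y] [∀ i, Finite (F i)] (hG : GG cs h T X = ⊤)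
    (hT : ∀ t : T, (∀ i, D.a i t = 1) → t = 1) (hm : MultOne cs h T X) [hp : Fact p.Prime]
    (hN : ∀ f : ↥(UU cs h X) →* ℂˣ, ∀ u, (∀ i, co R D i u = 1) → f u = 1) {ψ : ↥(UJ cs h X Set.univ) →* ℂˣ}
    (hψ : Nd cs h X Set.univ ψ) (J : Set I) [Fintype ↥(UJ cs h X J)] {α : ↥(LJ cs h T X J) → ℂ}
    (hα : IsIrrCharacter _ α) (hc : CuspL cs h T X J α)
    (hne : classInner (α ∘ Subgroup.inclusion (H148.GG.UJ_le_LJ (cs := cs) (h := h) (T := T) (X := X) (J := J)))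
      (fun u : ↥(UJ cs h X J) => ((ψ.comp (Subgroup.inclusion H148.GG.UJ_le_U)) u : ℂ)) ≠ 0) :
    ∃ ξ : IrrCharacter Y, classInner (HC R J α) (ξ : Y → ℂ) = 1 ∧ ¬ p ∣ charDegree (ξ : Y → ℂ) ∧
      ∀ χ : IrrCharacter Y, classInner (HC R J α) (χ : Y → ℂ) ≠ 0 → ¬ p ∣ charDegree (χ : Y → ℂ) → χ = ξ := by
  obtain ⟨ξ, h1, h2, h3⟩ := uniq R D hG hT hm hψ J hα hc hne
  exact ⟨ξ, h1, fun h4 => h2 ((dvd_iff R D hG hT hm hN ξ).1 h4), fun χ hχ hχ' => h3 χ hχ fun h4 =>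
    hχ' ((dvd_iff R D hG hT hm hN χ).2 h4)⟩

end Cfsg.Agent.H151.OC
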