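import Cfsg.Agent.H743.GG.CountAbs

/-!
# Uniqueness of the generic constituent (S4829, S4884, own characteristic; helper151)

The abstract statement: in the situation of helper743's `count_abs` every series `R l` with `[R l, Γ] ≠ 0` has exactly one
irreducible constituent `ξ` with `[ξ, Ξ] ≠ 0`; its multiplicity in `R l` is one.
-/

set_option autoImplicit false

open Cfsg Cfsg.Agent.Characters
open scoped ComplexConjugate

namespace Cfsg.Agent.H151.OC

open Cfsg.Agent.H743.GG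

variable {G : Type*} [Group G] [Fintype G]

/-- two different common constituents give inner product at least two -/
theorem eq_of_inner_one {α β : G → ℂ} (hα : IsCharacter G α) (hβ : IsCharacter G β) (h1 : classInner α β = 1)
    {ψ φ : IrrCharacter G} (hψ : classInner α (ψ : G → ℂ) ≠ 0) (hψ' : classInner β (ψ : G → ℂ) ≠ 0)
    (hφ : classInner α (φ : G → ℂ) ≠ 0) (hφ' : classInner β (φ : G → ℂ) ≠ 0) : ψ = φ := by
  classical
  have : Finite (IrrCharacter G) := Core.finite_irr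
  let _ : Fintype (IrrCharacter G) := Fintype.ofFinite _
  by_contra hne
  have h7 := h1
  rw [Core.classInner_eq_sum (Core.isCharacter_isClassFunction hα) (Core.isCharacter_isClassFunction hβ)] at h7
  have key : ∀ θ : IrrCharacter G, ∃ m : ℕ, classInner α (θ : G → ℂ) * conj (classInner β (θ : G → ℂ)) = m := by
    intro θ
    obtain ⟨a, ha⟩ := Core.classInner_isNat hα (Core.isIrr_isCharacter θ.2)
    obtain ⟨b, hb⟩ := Core.classInner_isNat hβ (Core.isIrr_isCharacter θ.2)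
    exact ⟨a * b, by rw [ha, hb]; simp⟩
  choose m hm using key
  rw [Finset.sum_congr rfl fun θ _ => hm θ] at h7
  have h8 : ∑ θ : IrrCharacter G, m θ = 1 := by exact_mod_cast h7
  have h9 : ∀ θ : IrrCharacter G, classInner α (θ : G → ℂ) ≠ 0 → classInner β (θ : G → ℂ) ≠ 0 → 1 ≤ m θ := by
    intro θ ha hb
    rw [Nat.one_le_iff_ne_zero]
    intro h0
    have h10 := hm θ
    rw [h0, Nat.cast_zero] at h10
    rcases mul_eq_zero.1 h10 with h11 | h11
    · exact ha h11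
    · rw [map_eq_zero] at h11
      exact hb h11
  have h10 : ∑ θ ∈ ({ψ, φ} : Finset (IrrCharacter G)), m θ ≤ ∑ θ : IrrCharacter G, m θ :=
    Finset.sum_le_sum_of_subset (Finset.subset_univ _)
  rw [Finset.sum_pair hne, h8] at h10
  have h11 := h9 ψ hψ hψ'
  have h12 := h9 φ hφ hφ'
  omega

/-- **Uniqueness of the generic constituent.** -/
theorem uniq_abs {Γ Ξ : G → ℂ} (hΓ : IsCharacter G Γ)
    (hmf : ∀ χ, IsIrrCharacter G χ → classInner Γ χ = 0 ∨ classInner Γ χ = 1)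
    (hΞ : IsClassFunction G Ξ) (hint : ∀ χ, IsIrrCharacter G χ → ∃ k : ℤ, classInner Ξ χ = k)
    {N M : ℕ} (hN : classInner Ξ Ξ = N) (hM : classInner Γ Γ = M) (hle : N ≤ M)
    {Λ : Type*} (R : Λ → G → ℂ) (hR : ∀ l, IsCharacter G (R l))
    (h1 : ∀ χ, IsIrrCharacter G χ → ∃ l, classInner (R l) χ ≠ 0)
    (h2 : ∀ l m, classInner (R l) (R m) ≠ 0 → R l = R m)
    (h3 : ∀ l, classInner (R l) Γ = 0 ∨ classInner (R l) Γ = 1)
    (h4 : ∀ l, classInner (R l) Ξ = classInner (R l) Γ ∨ classInner (R l) Ξ = -classInner (R l) Γ)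
    {l₀ : Λ} (hl₀ : classInner (R l₀) Γ ≠ 0) :
    ∃ ξ : IrrCharacter G, classInner (R l₀) (ξ : G → ℂ) = 1 ∧ classInner Ξ (ξ : G → ℂ) ≠ 0 ∧
      ∀ χ : IrrCharacter G, classInner (R l₀) (χ : G → ℂ) ≠ 0 → classInner Ξ (χ : G → ℂ) ≠ 0 → χ = ξ := by
  classical
  have : Finite (IrrCharacter G) := Core.finite_irr
  let _ : Fintype (IrrCharacter G) := Fintype.ofFinite _
  have hΓc := Core.isCharacter_isClassFunction hΓ
  -- the constituents of `Γ`
  let S : Finset (IrrCharacter G) := Finset.univ.filter fun ψ => classInner Γ (ψ : G → ℂ) ≠ 0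
  let D : Finset (IrrCharacter G) := Finset.univ.filter fun ψ => classInner Ξ (ψ : G → ℂ) ≠ 0
  have hS : S.card = M := by
    have h5 := Core.classInner_eq_sum hΓc hΓc
    rw [hM] at h5
    have h6 : ∀ ψ : IrrCharacter G, classInner Γ (ψ : G → ℂ) * conj (classInner Γ (ψ : G → ℂ)) =
        if classInner Γ (ψ : G → ℂ) ≠ 0 then 1 else 0 := by
      intro ψ
      rcases hmf _ ψ.2 with h7 | h7
      · rw [h7]; simp
      · rw [h7]; simp
    rw [Finset.sum_congr rfl fun ψ _ => h6 ψ, Finset.sum_boole] at h5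
    exact_mod_cast h5.symm
  -- choose the series
  choose l hl using fun ψ : IrrCharacter G => h1 _ ψ.2
  have hΓl : ∀ ψ ∈ S, classInner (R (l ψ)) Γ = 1 := by
    intro ψ hψ
    rcases h3 (l ψ) with h5 | h5
    · exfalso
      exact inner_ne_zero (hR _) hΓ ψ.2 (hl ψ) (Finset.mem_filter.1 hψ).2 h5
    · exact h5
  have hex : ∀ ψ ∈ S, ∃ ξ : IrrCharacter G, classInner (R (l ψ)) (ξ : G → ℂ) ≠ 0 ∧ classInner Ξ (ξ : G → ℂ) ≠ 0 := by
    intro ψ hψ
    by_contra hcon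
    push Not at hcon
    have h5 : classInner (R (l ψ)) Ξ ≠ 0 := by
      rcases h4 (l ψ) with h6 | h6
      · rw [h6, hΓl ψ hψ]; exact one_ne_zero
      · rw [h6, hΓl ψ hψ]; exact neg_ne_zero.2 one_ne_zero
    apply h5
    rw [Core.classInner_eq_sum (Core.isCharacter_isClassFunction (hR _)) hΞ]
    refine Finset.sum_eq_zero fun ξ _ => ?_
    by_cases h6 : classInner (R (l ψ)) (ξ : G → ℂ) = 0
    · rw [h6, zero_mul]
    · rw [hcon ξ h6, map_zero, mul_zero]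
  choose! ξ hξ1 hξ2 using hex
  have hinj : Set.InjOn ξ (S : Set (IrrCharacter G)) := by
    intro ψ hψ φ hφ he
    have hψ' : ψ ∈ S := hψ
    have hφ' : φ ∈ S := hφ
    have h5 : classInner (R (l ψ)) (R (l φ)) ≠ 0 :=
      inner_ne_zero (hR _) (hR _) (ξ ψ).2 (hξ1 ψ hψ') (by rw [he]; exact hξ1 φ hφ')
    have h6 := h2 _ _ h5
    exact eq_of_inner_one (hR (l ψ)) hΓ (hΓl ψ hψ') (hl ψ) (Finset.mem_filter.1 hψ').2 (by rw [h6]; exact hl φ)
      (Finset.mem_filter.1 hφ').2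
  -- the norm of `Ξ`
  choose k hk using fun ψ : IrrCharacter G => hint _ ψ.2
  have hnorm : (∑ ψ : IrrCharacter G, (k ψ) ^ 2 : ℤ) = N := by
    have h5 := Core.classInner_eq_sum hΞ hΞ
    rw [hN] at h5
    have h6 : ∀ ψ : IrrCharacter G, classInner Ξ (ψ : G → ℂ) * conj (classInner Ξ (ψ : G → ℂ)) = ((k ψ ^ 2 : ℤ) : ℂ) := by
      intro ψ
      rw [hk ψ]
      push_cast
      rw [map_intCast, sq]
    rw [Finset.sum_congr rfl fun ψ _ => h6 ψ] at h5
    exact_mod_cast h5.symm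
  have hD : ∀ ψ, ψ ∈ D ↔ k ψ ≠ 0 := by
    intro ψ
    rw [Finset.mem_filter, hk ψ, Int.cast_ne_zero]
    exact ⟨fun h => h.2, fun h => ⟨Finset.mem_univ _, h⟩⟩
  have hsum : (∑ ψ ∈ D, (k ψ) ^ 2 : ℤ) = N := by
    rw [← hnorm]
    refine Finset.sum_subset (Finset.subset_univ _) fun ψ _ hψ => ?_
    rw [hD, not_not] at hψ
    rw [hψ]; norm_num
  have hge : ∀ ψ ∈ D, 1 ≤ (k ψ) ^ 2 := by
    intro ψ hψ
    rw [hD] at hψ
    have := sq_nonneg (k ψ)
    have h5 : k ψ ^ 2 ≠ 0 := pow_ne_zero _ hψ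
    omega
  have hDN : D.card ≤ N := by
    have h5 : (∑ _ψ ∈ D, (1 : ℤ)) ≤ ∑ ψ ∈ D, (k ψ) ^ 2 := Finset.sum_le_sum hge
    rw [Finset.sum_const, nsmul_eq_mul, mul_one, hsum] at h5
    exact_mod_cast h5
  have himg : S.image ξ = D := by
    refine Finset.eq_of_subset_of_card_le (fun χ hχ => ?_) ?_
    · obtain ⟨ψ, hψ, rfl⟩ := Finset.mem_image.1 hχ
      exact Finset.mem_filter.2 ⟨Finset.mem_univ _, hξ2 ψ hψ⟩
    · rw [Finset.card_image_of_injOn hinj, hS]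
      exact hDN.trans hle
  -- the given series
  have hl1 : classInner (R l₀) Γ = 1 := (h3 l₀).resolve_left hl₀
  obtain ⟨ψ₀, hψR, hψΓ⟩ : ∃ ψ₀ : IrrCharacter G, classInner (R l₀) (ψ₀ : G → ℂ) ≠ 0 ∧ classInner Γ (ψ₀ : G → ℂ) ≠ 0 := by
    by_contra hcon
    push Not at hcon
    apply hl₀
    rw [Core.classInner_eq_sum (Core.isCharacter_isClassFunction (hR _)) hΓc]
    refine Finset.sum_eq_zero fun θ _ => ?_
    by_cases h6 : classInner (R l₀) (θ : G → ℂ) = 0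
    · rw [h6, zero_mul]
    · rw [hcon θ h6, map_zero, mul_zero]
  have hψS : ψ₀ ∈ S := Finset.mem_filter.2 ⟨Finset.mem_univ _, hψΓ⟩
  have hRl : R (l ψ₀) = R l₀ := h2 _ _ (inner_ne_zero (hR _) (hR _) ψ₀.2 (hl ψ₀) hψR)
  have hξ0 : classInner (R l₀) (ξ ψ₀ : G → ℂ) ≠ 0 := by
    rw [← hRl]
    exact hξ1 ψ₀ hψS
  have huniq : ∀ χ : IrrCharacter G, classInner (R l₀) (χ : G → ℂ) ≠ 0 → classInner Ξ (χ : G → ℂ) ≠ 0 → χ = ξ ψ₀ := by
    intro χ hχR hχΞ
    have hχD : χ ∈ D := Finset.mem_filter.2 ⟨Finset.mem_univ _, hχΞ⟩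
    rw [← himg] at hχD
    obtain ⟨ψ, hψ, rfl⟩ := Finset.mem_image.1 hχD
    have h5 : R (l ψ) = R l₀ := h2 _ _ (inner_ne_zero (hR _) (hR _) (ξ ψ).2 (hξ1 ψ hψ) hχR)
    have h6 : ψ = ψ₀ := eq_of_inner_one (hR l₀) hΓ hl1 (by rw [← h5]; exact hl ψ) (Finset.mem_filter.1 hψ).2 hψR hψΓ
    rw [h6]
  refine ⟨ξ ψ₀, ?_, hξ2 ψ₀ hψS, huniq⟩
  -- the multiplicity
  obtain ⟨a, ha⟩ := Core.classInner_isNat (hR l₀) (Core.isIrr_isCharacter (ξ ψ₀).2)
  have h5 : classInner (R l₀) Ξ = (a : ℂ) * ((k (ξ ψ₀) : ℤ) : ℂ) := by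
    rw [Core.classInner_eq_sum (Core.isCharacter_isClassFunction (hR _)) hΞ, Finset.sum_eq_single (ξ ψ₀)]
    · rw [ha, hk, map_intCast]
    · intro θ _ hθ
      by_cases h6 : classInner (R l₀) (θ : G → ℂ) = 0
      · rw [h6, zero_mul]
      · by_cases h7 : classInner Ξ (θ : G → ℂ) = 0
        · rw [h7, map_zero, mul_zero]
        · exact absurd (huniq θ h6 h7) hθ
    · intro hc
      exact absurd (Finset.mem_univ _) hc
  have h6 : ((a : ℤ) * k (ξ ψ₀) = 1) ∨ ((a : ℤ) * k (ξ ψ₀) = -1) := by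
    rcases h4 l₀ with h7 | h7
    · left
      rw [h5, hl1] at h7
      exact_mod_cast h7
    · right
      rw [h5, hl1] at h7
      exact_mod_cast h7
  have h7 : (a : ℤ) ∣ 1 := by
    rcases h6 with h8 | h8
    · exact ⟨_, h8.symm⟩
    · exact ⟨-k (ξ ψ₀), by rw [mul_neg, h8]; norm_num⟩
  have h8 : a = 1 := by
    have h9 : a ∣ 1 := by exact_mod_cast h7
    exact Nat.dvd_one.1 h9
  rw [ha, h8, Nat.cast_one]

end Cfsg.Agent.H151.OC
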